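import Groth.Prelude.Def_Conn
import Mathlib.LinearAlgebra.TensorProduct.Basis
import Mathlib.LinearAlgebra.FreeModule.Basic

/-!
# Covariant derivatives along functionals detect equalities in `M ⊗ Ω` (`Ω` free)

Basic calculus of `Conn.along` for connections, Hom connections and tensor connections.
-/

set_option autoImplicit false
universe v u
open TensorProduct

namespace K892.Along

section Ev

variable {B Ω M N : Type u} [CommRing B] [AddCommGroup Ω] [Module B Ω]
  [AddCommGroup M] [Module B M] [AddCommGroup N] [Module B N]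

/-- Contraction `M ⊗ Ω → M` with a functional `θ : Ω → B`. -/
noncomputable def ev (M : Type u) [AddCommGroup M] [Module B M] (θ : Ω →ₗ[B] B) : M ⊗[B] Ω →ₗ[B] M :=
  (TensorProduct.rid B M).toLinearMap ∘ₗ TensorProduct.map LinearMap.id θ

theorem ev_tmul (θ : Ω →ₗ[B] B) (m : M) (w : Ω) : ev M θ (m ⊗ₜ[B] w) = θ w • m := by
  simp [ev]

theorem ev_map (θ : Ω →ₗ[B] B) (φ : M →ₗ[B] N) (x : M ⊗[B] Ω) :
    ev N θ (TensorProduct.map φ LinearMap.id x) = φ (ev M θ x) := by
  induction x using TensorProduct.induction_on with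
  | zero => simp
  | tmul m w => simp [ev_tmul]
  | add x y hx hy => simp [hx, hy]

theorem ext_basis {κ : Type*} (b : Module.Basis κ B Ω) {x y : M ⊗[B] Ω}
    (h : ∀ i, ev M (b.coord i) x = ev M (b.coord i) y) : x = y := by
  classical
  apply (TensorProduct.equivFinsuppOfBasisRight b).injective
  have key : ∀ (z : M ⊗[B] Ω) (i : κ),
      (TensorProduct.equivFinsuppOfBasisRight b) z i = ev M (b.coord i) z := by
    intro z i
    induction z using TensorProduct.induction_on with
    | zero => simp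
    | tmul m w => rw [TensorProduct.equivFinsuppOfBasisRight_apply_tmul_apply, ev_tmul]; rfl
    | add x y hx hy => simp [hx, hy]
  ext i
  rw [key, key, h]

theorem ext_all [Module.Free B Ω] {x y : M ⊗[B] Ω}
    (h : ∀ θ : Ω →ₗ[B] B, ev M θ x = ev M θ y) : x = y :=
  ext_basis (Module.Free.chooseBasis B Ω) (fun _ => h _)

end Ev

section

variable {A : Type v} {B Ω M M' M'' : Type u} [CommRing A] [CommRing B] [Algebra A B]
  [AddCommGroup Ω] [Module B Ω] [Module A Ω] [IsScalarTower A B Ω]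
  [AddCommGroup M] [Module B M] [Module A M] [IsScalarTower A B M]
  [AddCommGroup M'] [Module B M'] [Module A M'] [IsScalarTower A B M']
  [AddCommGroup M''] [Module B M''] [Module A M''] [IsScalarTower A B M'']

omit [Module A Ω] [IsScalarTower A B Ω] in
theorem along_eq_ev (nabla : M →ₗ[A] M ⊗[B] Ω) (θ : Ω →ₗ[B] B) (m : M) :
    Conn.along nabla θ m = ev M θ (nabla m) := rfl

omit [IsScalarTower A B Ω] in
theorem along_smul (δ : Derivation A B Ω) {nabla : M →ₗ[A] M ⊗[B] Ω} (hc : Conn.IsConn δ nabla)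
    (θ : Ω →ₗ[B] B) (b : B) (m : M) :
    Conn.along nabla θ (b • m) = b • Conn.along nabla θ m + θ (δ b) • m := by
  rw [along_eq_ev, along_eq_ev, hc, map_add, map_smul, ev_tmul]

omit [IsScalarTower A B Ω] in
theorem along_lam_smul (δ : Derivation A B Ω) {lam : B} {nabla : M →ₗ[A] M ⊗[B] Ω}
    (hc : Conn.IsLamConn δ lam nabla) (θ : Ω →ₗ[B] B) (b : B) (m : M) :
    Conn.along nabla θ (b • m) = b • Conn.along nabla θ m + (lam * θ (δ b)) • m := by
  rw [along_eq_ev, along_eq_ev, hc, map_add, map_smul, map_smul, ev_tmul, smul_smul]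

theorem along_triv (δ : Derivation A B Ω) (θ : Ω →ₗ[B] B) (b : B) :
    Conn.along (Conn.triv δ) θ b = θ (δ b) := by
  rw [along_eq_ev, Conn.triv_apply, ev_tmul, smul_eq_mul, mul_one]

omit [Module A Ω] [IsScalarTower A B Ω] in
/-- Horizontality can be tested on the covariant derivatives along all functionals. -/
theorem isHorizontal_iff [Module.Free B Ω] (nabla : M →ₗ[A] M ⊗[B] Ω)
    (nabla' : M' →ₗ[A] M' ⊗[B] Ω) (φ : M →ₗ[B] M') :
    Conn.IsHorizontal nabla nabla' φ ↔
      ∀ (θ : Ω →ₗ[B] B) (m : M), Conn.along nabla' θ (φ m) = φ (Conn.along nabla θ m) := by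
  constructor
  · intro h θ m
    rw [along_eq_ev, along_eq_ev, h m, ev_map]
  · intro h m
    apply ext_all
    intro θ
    rw [ev_map]
    exact h θ m

omit [Module A Ω] [IsScalarTower A B Ω] in
theorem along_hom {nabla : M →ₗ[A] M ⊗[B] Ω} {nabla' : M' →ₗ[A] M' ⊗[B] Ω}
    {nablaH : (M →ₗ[B] M') →ₗ[A] (M →ₗ[B] M') ⊗[B] Ω} (hH : Conn.IsHomConn nabla nabla' nablaH)
    (θ : Ω →ₗ[B] B) (φ : M →ₗ[B] M') (m : M) :
    Conn.along nablaH θ φ m = Conn.along nabla' θ (φ m) - φ (Conn.along nabla θ m) := by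
  have h1 : Conn.along nablaH θ φ m = (LinearMap.applyₗ m : (M →ₗ[B] M') →ₗ[B] M') (ev _ θ (nablaH φ)) := rfl
  rw [h1, ← ev_map, hH φ m, map_sub, ev_map]
  rfl

omit [Module A Ω] [IsScalarTower A B Ω] in
theorem along_tensor {nabla : M →ₗ[A] M ⊗[B] Ω} {nabla' : M' →ₗ[A] M' ⊗[B] Ω}
    {nablaT : M ⊗[B] M' →ₗ[A] (M ⊗[B] M') ⊗[B] Ω} (hT : Conn.IsTensorConn nabla nabla' nablaT)
    (θ : Ω →ₗ[B] B) (m : M) (m' : M') :
    Conn.along nablaT θ (m ⊗ₜ[B] m') =
      Conn.along nabla θ m ⊗ₜ[B] m' + m ⊗ₜ[B] Conn.along nabla' θ m' := by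
  rw [along_eq_ev, hT m m', map_add, along_eq_ev, along_eq_ev]
  congr 1
  · generalize nabla m = x
    induction x using TensorProduct.induction_on with
    | zero => simp
    | tmul a w => rw [Conn.swapR_tmul, ev_tmul, ev_tmul, smul_tmul']
    | add x y hx hy => simp only [add_tmul, map_add, hx, hy]
  · generalize nabla' m' = x
    induction x using TensorProduct.induction_on with
    | zero => simp
    | tmul a w => rw [TensorProduct.assoc_symm_tmul, ev_tmul, ev_tmul, tmul_smul]
    | add x y hx hy => simp only [tmul_add, map_add, hx, hy]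

end

end K892.Along
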