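import Groth.Agent.Conn.K892.Along
import Mathlib.LinearAlgebra.Trace

/-!
# Composition, evaluation and trace are compatible with induced covariant derivatives
-/

set_option autoImplicit false
universe v u
open TensorProduct

namespace K892.Hom

open K892.Along

variable {A : Type v} {B Ω E F G : Type u} [CommRing A] [CommRing B] [Algebra A B]
  [AddCommGroup Ω] [Module B Ω] [Module A Ω] [IsScalarTower A B Ω]
  [AddCommGroup E] [Module B E] [Module A E] [IsScalarTower A B E]
  [AddCommGroup F] [Module B F] [Module A F] [IsScalarTower A B F]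
  [AddCommGroup G] [Module B G] [Module A G] [IsScalarTower A B G]

omit [Module A Ω] [IsScalarTower A B Ω] in
/-- The covariant derivative of a composite. -/
theorem along_comp {nE : E →ₗ[A] E ⊗[B] Ω} {nF : F →ₗ[A] F ⊗[B] Ω} {nG : G →ₗ[A] G ⊗[B] Ω}
    {nEF : (E →ₗ[B] F) →ₗ[A] (E →ₗ[B] F) ⊗[B] Ω} (hEF : Conn.IsHomConn nE nF nEF)
    {nFG : (F →ₗ[B] G) →ₗ[A] (F →ₗ[B] G) ⊗[B] Ω} (hFG : Conn.IsHomConn nF nG nFG)
    {nEG : (E →ₗ[B] G) →ₗ[A] (E →ₗ[B] G) ⊗[B] Ω} (hEG : Conn.IsHomConn nE nG nEG)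
    (θ : Ω →ₗ[B] B) (ψ : F →ₗ[B] G) (φ : E →ₗ[B] F) :
    Conn.along nEG θ (ψ ∘ₗ φ) = Conn.along nFG θ ψ ∘ₗ φ + ψ ∘ₗ Conn.along nEF θ φ := by
  ext m
  rw [along_hom hEG, LinearMap.add_apply, LinearMap.comp_apply, LinearMap.comp_apply,
    LinearMap.comp_apply, LinearMap.comp_apply, along_hom hFG, along_hom hEF, map_sub]
  abel

omit [IsScalarTower A B Ω] in
/-- The induced connection on `Hom` obeys the Leibniz rule on covariant derivatives. -/
theorem along_hom_smul (δ : Derivation A B Ω) {nE : E →ₗ[A] E ⊗[B] Ω} {nF : F →ₗ[A] F ⊗[B] Ω}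
    (hcF : Conn.IsConn δ nF)
    {nEF : (E →ₗ[B] F) →ₗ[A] (E →ₗ[B] F) ⊗[B] Ω} (hEF : Conn.IsHomConn nE nF nEF)
    (θ : Ω →ₗ[B] B) (b : B) (φ : E →ₗ[B] F) :
    Conn.along nEF θ (b • φ) = b • Conn.along nEF θ φ + θ (δ b) • φ := by
  ext m
  rw [along_hom hEF, LinearMap.smul_apply, LinearMap.smul_apply, along_smul δ hcF,
    LinearMap.add_apply, LinearMap.smul_apply, LinearMap.smul_apply, along_hom hEF, smul_sub]
  abel

omit [IsScalarTower A B Ω] in
/-- The trace of the covariant derivative of an endomorphism. -/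
theorem trace_along [Module.Finite B E] [Module.Free B E] (δ : Derivation A B Ω)
    {nE : E →ₗ[A] E ⊗[B] Ω} (hcE : Conn.IsConn δ nE)
    {nEE : (E →ₗ[B] E) →ₗ[A] (E →ₗ[B] E) ⊗[B] Ω} (hEE : Conn.IsHomConn nE nE nEE)
    (θ : Ω →ₗ[B] B) (φ : E →ₗ[B] E) :
    LinearMap.trace B E (Conn.along nEE θ φ) = θ (δ (LinearMap.trace B E φ)) := by
  obtain ⟨x, rfl⟩ : ∃ x, dualTensorHom B E E x = φ :=
    (dualTensorHomEquivOfBasis (Module.Free.chooseBasis B E)).surjective φ
  induction x using TensorProduct.induction_on with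
  | zero => simp
  | add x y hx hy => simp only [map_add, hx, hy]
  | tmul f m =>
    have hd : ∃ g : E →ₗ[B] B, ∀ x, g x = θ (δ (f x)) - f (Conn.along nE θ x) := by
      refine ⟨{ toFun := fun x => θ (δ (f x)) - f (Conn.along nE θ x), map_add' := ?_, map_smul' := ?_ }, fun x => rfl⟩
      · intro x y
        simp only [map_add]
        abel
      · intro b x
        rw [along_smul δ hcE]
        simp only [map_smul, smul_eq_mul, Derivation.leibniz, map_add, RingHom.id_apply]
        ring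
    obtain ⟨g, hg⟩ := hd
    have h : Conn.along nEE θ (dualTensorHom B E E (f ⊗ₜ m)) =
        dualTensorHom B E E (f ⊗ₜ Conn.along nE θ m) + dualTensorHom B E E (g ⊗ₜ m) := by
      ext x
      rw [along_hom hEE, LinearMap.add_apply, dualTensorHom_apply, dualTensorHom_apply,
        dualTensorHom_apply, dualTensorHom_apply, along_smul δ hcE, hg, sub_smul]
      abel
    rw [h, map_add, LinearMap.trace_eq_contract_apply, LinearMap.trace_eq_contract_apply,
      LinearMap.trace_eq_contract_apply, contractLeft_apply, contractLeft_apply,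
      contractLeft_apply, hg]
    ring

end K892.Hom
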